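import Mathlib
import Cfsg.Prelude.Def_Classical
import Cfsg.Agent.S0246

/-!
# Project PS4 = S5320, part B (`q ≡ ±1 (mod 8)`): shared definitions, `Sp₄` picture

Plan: `Cfsg/Agent/Lib/Helper16/PS4/PLAN.md`.

`Sp4 F = Matrix.symplecticGroup (Fin 2) F` acts on `F^(Fin 2 ⊕ Fin 2)`; `inl i = e_i`, `inr i = f_i`,
the hyperbolic plane number `i` is `⟨e_i, f_i⟩`.  `blk (A, B)` acts as `A` on plane `0` and as `B` on
plane `1`; `sw` swaps the two planes.  For a Sylow `2`-subgroup `Q` of `SL2 F`, `S4 Q = (Q × Q)⟨sw⟩`.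
-/

set_option autoImplicit false

namespace Cfsg.Agent.Lib.Helper16.PS4

open Matrix

abbrev SL2 (F : Type*) [Field F] : Type _ := Matrix.SpecialLinearGroup (Fin 2) F

abbrev Sp4 (F : Type*) [Field F] : Type _ := ↥(Matrix.symplecticGroup (Fin 2) F)

/-- the plane containing a basis vector -/
def pl : Fin 2 ⊕ Fin 2 → Fin 2
  | Sum.inl i => i
  | Sum.inr i => i

/-- the coordinate of a basis vector inside its plane: `e ↦ 0`, `f ↦ 1` -/
def co : Fin 2 ⊕ Fin 2 → Fin 2
  | Sum.inl _ => 0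
  | Sum.inr _ => 1

@[simp] theorem pl_inl (i : Fin 2) : pl (Sum.inl i) = i := rfl

@[simp] theorem pl_inr (i : Fin 2) : pl (Sum.inr i) = i := rfl

@[simp] theorem co_inl (i : Fin 2) : co (Sum.inl i) = 0 := rfl

@[simp] theorem co_inr (i : Fin 2) : co (Sum.inr i) = 1 := rfl

section

variable {F : Type*} [Field F]

/-- block matrix: `A` on the plane `0`, `B` on the plane `1` -/
def blkM (A B : Matrix (Fin 2) (Fin 2) F) : Matrix (Fin 2 ⊕ Fin 2) (Fin 2 ⊕ Fin 2) F :=
  Matrix.of fun s t =>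
    if pl s = pl t then (if pl s = 0 then A (co s) (co t) else B (co s) (co t)) else 0

theorem blkM_apply (A B : Matrix (Fin 2) (Fin 2) F) (s t : Fin 2 ⊕ Fin 2) :
    blkM A B s t =
      if pl s = pl t then (if pl s = 0 then A (co s) (co t) else B (co s) (co t)) else 0 := rfl

/-- the matrix swapping the two planes -/
def swM : Matrix (Fin 2 ⊕ Fin 2) (Fin 2 ⊕ Fin 2) F :=
  Matrix.of fun s t => if pl s ≠ pl t ∧ co s = co t then 1 else 0

theorem swM_apply (s t : Fin 2 ⊕ Fin 2) :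
    (swM : Matrix (Fin 2 ⊕ Fin 2) (Fin 2 ⊕ Fin 2) F) s t =
      if pl s ≠ pl t ∧ co s = co t then 1 else 0 := rfl

theorem blkM_one : blkM (1 : Matrix (Fin 2) (Fin 2) F) 1 = 1 := by
  ext s t
  rcases s with s | s <;> rcases t with t | t <;> fin_cases s <;> fin_cases t <;>
    simp [blkM_apply, Matrix.one_apply]

theorem blkM_mul (A B A' B' : Matrix (Fin 2) (Fin 2) F) :
    blkM A B * blkM A' B' = blkM (A * A') (B * B') := by
  ext s t
  rcases s with s | s <;> rcases t with t | t <;> fin_cases s <;> fin_cases t <;>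
    simp [blkM_apply, Matrix.mul_apply, Fintype.sum_sum_type, Fin.sum_univ_two]

theorem blkM_mem (A B : Matrix (Fin 2) (Fin 2) F) (hA : A.det = 1) (hB : B.det = 1) :
    blkM A B ∈ Matrix.symplecticGroup (Fin 2) F := by
  rw [SymplecticGroup.mem_iff]
  rw [Matrix.det_fin_two] at hA hB
  ext s t
  rcases s with s | s <;> rcases t with t | t <;> fin_cases s <;> fin_cases t <;>
    simp [blkM_apply, Matrix.mul_apply, Fintype.sum_sum_type, Fin.sum_univ_two, Matrix.J,
      Matrix.fromBlocks, Matrix.transpose_apply] <;> grind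

theorem swM_mem : (swM : Matrix (Fin 2 ⊕ Fin 2) (Fin 2 ⊕ Fin 2) F) ∈
    Matrix.symplecticGroup (Fin 2) F := by
  rw [SymplecticGroup.mem_iff]
  ext s t
  rcases s with s | s <;> rcases t with t | t <;> fin_cases s <;> fin_cases t <;>
    simp [swM_apply, Matrix.mul_apply, Fintype.sum_sum_type, Fin.sum_univ_two, Matrix.J,
      Matrix.fromBlocks, Matrix.transpose_apply]

/-- the embedding `SL2 × SL2 → Sp4`: `A` on the plane `0`, `B` on the plane `1` -/
def blk : SL2 F × SL2 F →* Sp4 F where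
  toFun p := ⟨blkM (p.1 : Matrix (Fin 2) (Fin 2) F) (p.2 : Matrix (Fin 2) (Fin 2) F),
    blkM_mem _ _ p.1.2 p.2.2⟩
  map_one' := Subtype.ext blkM_one
  map_mul' p q := Subtype.ext (blkM_mul _ _ _ _).symm

theorem blk_coe (p : SL2 F × SL2 F) :
    ((blk p : Sp4 F) : Matrix (Fin 2 ⊕ Fin 2) (Fin 2 ⊕ Fin 2) F) =
      blkM (p.1 : Matrix (Fin 2) (Fin 2) F) (p.2 : Matrix (Fin 2) (Fin 2) F) := rfl

/-- the swap of the two planes -/
def sw : Sp4 F := ⟨swM, swM_mem⟩

theorem sw_coe : ((sw : Sp4 F) : Matrix (Fin 2 ⊕ Fin 2) (Fin 2 ⊕ Fin 2) F) = swM := rfl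

/-- the 2-central involution (modulo the centre): `-1` on the plane `0`, `1` on the plane `1` -/
def zt : Sp4 F := blk (-1, 1)

/-- `(Q × Q)⟨sw⟩` -/
def S4 (Q : Subgroup (SL2 F)) : Subgroup (Sp4 F) :=
  Subgroup.closure ((blk '' ((Q : Set (SL2 F)) ×ˢ (Q : Set (SL2 F)))) ∪ {sw})

/-- the projection onto `PSp₄(F)` -/
def proj : Sp4 F →* Cfsg.PSp 2 F := QuotientGroup.mk' (Subgroup.center (Sp4 F))

end

end Cfsg.Agent.Lib.Helper16.PS4
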