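import Mathlib
import Cfsg.Agent.Lib.Helper16.PS4.Defs

/-!
# Project PS4 = S5320, part B: the leaf facts, bundled

`Leaf F` bundles the statements of the leaf pieces (I, CZ, FA, FB, FS, QS, Y); the assembly pieces
(HS = `S4_hsc`, NS = `S4_norm`) and the final glue take a `Leaf F` as hypothesis.
All statements here are copied verbatim into `Skeleton.lean.txt`.
-/

set_option autoImplicit false

namespace Cfsg.Agent.Lib.Helper16.PS4

open Matrix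

/-- the leaf facts (pieces I, CZ, FA, FB, FS, QS, Y) -/
structure Leaf (F : Type*) [Field F] [Fintype F] : Prop where
  /- piece I: the wreath product inside `Sp4` -/
  blk_injective : Function.Injective (blk : SL2 F × SL2 F → Sp4 F)
  sw_mul_self : (sw : Sp4 F) * sw = 1
  sw_conj_blk : ∀ a b : SL2 F, (sw : Sp4 F) * blk (a, b) * sw⁻¹ = blk (b, a)
  blk_mul_sw_ne_blk : ∀ p p' : SL2 F × SL2 F, blk p * (sw : Sp4 F) ≠ blk p'
  blk_neg_one : blk ((-1 : SL2 F), (-1 : SL2 F)) = Cfsg.Agent.S0246.negOne F 2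
  mem_S4_iff : ∀ (Q : Subgroup (SL2 F)) (x : Sp4 F),
    x ∈ S4 Q ↔ ∃ a ∈ Q, ∃ b ∈ Q, x = blk (a, b) ∨ x = blk (a, b) * sw
  sl2_sq_eq_one : ∀ a : SL2 F, a * a = 1 → a = 1 ∨ a = -1
  neg_one_ne_one : (-1 : SL2 F) ≠ 1
  /- piece CZ: the centralizer of `zt` -/
  cent_zt : ∀ g : Sp4 F, g * zt = zt * g → ∃ p : SL2 F × SL2 F, g = blk p
  /- piece FA: non-central involutions of `Sp4` are conjugate to `zt` -/
  conj_zt : ∀ x : Sp4 F, x * x = 1 → x ≠ 1 → x ≠ Cfsg.Agent.S0246.negOne F 2 →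
    ∃ g : Sp4 F, g * x * g⁻¹ = zt
  /- piece FB: elements of square `-1` are block diagonal up to conjugacy -/
  conj_blk_of_sq : ∀ x : Sp4 F, x * x = Cfsg.Agent.S0246.negOne F 2 →
    ∃ (g : Sp4 F) (a b : SL2 F), a * a = -1 ∧ b * b = -1 ∧ g * x * g⁻¹ = blk (a, b)
  /- piece FS: elements of square `-1` of `SL2` are conjugate -/
  conj_sl2_of_sq : ∀ a a' : SL2 F, a * a = -1 → a' * a' = -1 → ∃ g : SL2 F, g * a * g⁻¹ = a'
  /- piece QS: the Sylow 2-subgroups of `SL2` -/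
  neg_one_mem : ∀ Q : Sylow 2 (SL2 F), (-1 : SL2 F) ∈ Q
  Q_exists_sq : ∀ Q : Sylow 2 (SL2 F), ∃ a ∈ Q, a * a = -1
  Q_closure_sq : ∀ Q : Sylow 2 (SL2 F),
    (Q : Subgroup (SL2 F)) ≤ Subgroup.closure {a : SL2 F | a ∈ Q ∧ a * a = -1}
  Q_closure_prod : ∀ Q : Sylow 2 (SL2 F),
    (Q : Subgroup (SL2 F)) ≤
      Subgroup.closure {z : SL2 F | ∃ a ∈ Q, ∃ b ∈ Q, a * a = -1 ∧ b * b = -1 ∧ z = a * b}
  Q_norm : (Fintype.card F % 8 = 1 ∨ Fintype.card F % 8 = 7) → ∀ Q : Sylow 2 (SL2 F),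
    ∀ g : SL2 F, (∀ x ∈ Q, g * x * g⁻¹ ∈ Q) → g ∈ Q
  /- piece Y: orders -/
  card_S4 : ∀ Q : Sylow 2 (SL2 F),
    Nat.card (S4 (Q : Subgroup (SL2 F))) = 2 ^ (Nat.card (Sp4 F)).factorization 2

end Cfsg.Agent.Lib.Helper16.PS4
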