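import Mathlib
import Cfsg.Agent.Lib.Helper16.PS4.Hyps
import Cfsg.Agent.S5339
import Cfsg.Agent.S5076

/-!
# Project PS4 = S5320, part B: the glue

* `simple_of_selfnorm` : a generic criterion (self-normalizing Sylow subgroup without proper
  nontrivial "strongly closed" subgroup), from the landed `S5339` and `S5076`;
* `partB` : the fusion system of `PSp 2 F` on any Sylow 2-subgroup is simple, from the leaf facts and
  the two assembly pieces `S4_hsc`, `S4_norm` (taken as hypotheses).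
-/

set_option autoImplicit false

namespace Cfsg.Agent.Lib.Helper16.PS4

open Cfsg Cfsg.FusionSystem Matrix

open scoped Pointwise

/-- generic criterion -/
theorem simple_of_selfnorm {G : Type*} [Group G] [Finite G] (p : ℕ) [Fact p.Prime] (S : Sylow p G)
    (hne : (S : Subgroup G) ≠ ⊥)
    (hnorm : ∀ g : G, (∀ x ∈ (S : Subgroup G), g * x * g⁻¹ ∈ (S : Subgroup G)) →
      g ∈ (S : Subgroup G))
    (hsc : ∀ T : Subgroup G, T ≤ (S : Subgroup G) → T ≠ ⊥ →
      (∀ x ∈ T, ∀ g : G, g * x * g⁻¹ ∈ (S : Subgroup G) → g * x * g⁻¹ ∈ T) →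
      (S : Subgroup G) ≤ T) :
    (groupFusionSystem (S : Subgroup G)).IsSimple p := by
  have hsat := Cfsg.Agent.S5076.result p S
  have hSp : IsPGroup p ↥(S : Subgroup G) := S.isPGroup'
  refine Cfsg.Agent.S5339.result p hSp _ hsat hne ?_ ?_
  · -- `Aut_G(S) = Inn(S)`
    apply le_antisymm
    · unfold FusionSystem.autGroup
      rw [Subgroup.closure_le]
      rintro α ⟨-, -, g, hg⟩
      have hgS : ∀ x ∈ (S : Subgroup G), g * x * g⁻¹ ∈ (S : Subgroup G) := by
        intro x hx
        have := hg ⟨x, hx⟩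
        rw [← this]
        exact (α ⟨x, hx⟩).2
      have hgS' : g ∈ (S : Subgroup G) := hnorm g hgS
      refine ⟨⟨g, hgS'⟩, ?_⟩
      ext x
      rw [MulAut.conj_apply]
      exact (hg x).symm
    · rintro _ ⟨s, rfl⟩
      unfold FusionSystem.autGroup
      apply Subgroup.subset_closure
      refine ⟨le_refl _, fun x => (MulAut.conj s x).2, (s : G), fun x => rfl⟩
  · intro T hT
    by_cases hT0 : T = ⊥
    · exact Or.inl hT0
    right
    apply le_antisymm hT.1
    apply hsc T hT.1 hT0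
    intro x hx g hg
    have hle : Subgroup.zpowers x ≤ T := by
      rw [Subgroup.zpowers_le]; exact hx
    have hφ : conjHom (Subgroup.zpowers x) g ∈
        (groupFusionSystem (S : Subgroup G)).Hom (Subgroup.zpowers x) := by
      refine ⟨hle.trans hT.1, ?_, g, fun y => rfl⟩
      rintro ⟨_, j, rfl⟩
      show g * x ^ j * g⁻¹ ∈ (S : Subgroup G)
      have : g * x ^ j * g⁻¹ = (g * x * g⁻¹) ^ j := by
        rw [conj_zpow]
      rw [this]
      exact Subgroup.zpow_mem _ hg j
    exact hT.2 _ hle _ hφ ⟨x, Subgroup.mem_zpowers x⟩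

/-- the criterion `simple_of_selfnorm`, with the hypotheses checked on a conjugate Sylow subgroup -/
theorem simple_of_selfnorm_conj {G : Type*} [Group G] [Finite G] (p : ℕ) [Fact p.Prime]
    (S0 S : Sylow p G) (hne : (S0 : Subgroup G) ≠ ⊥)
    (hnorm : ∀ g : G, (∀ x ∈ (S0 : Subgroup G), g * x * g⁻¹ ∈ (S0 : Subgroup G)) →
      g ∈ (S0 : Subgroup G))
    (hsc : ∀ T : Subgroup G, T ≤ (S0 : Subgroup G) → T ≠ ⊥ →
      (∀ x ∈ T, ∀ g : G, g * x * g⁻¹ ∈ (S0 : Subgroup G) → g * x * g⁻¹ ∈ T) →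
      (S0 : Subgroup G) ≤ T) :
    (groupFusionSystem (S : Subgroup G)).IsSimple p := by
  obtain ⟨w, hw⟩ := MulAction.exists_smul_eq G S0 S
  have hS : ∀ x : G, x ∈ (S : Subgroup G) ↔ w⁻¹ * x * w ∈ (S0 : Subgroup G) := by
    intro x
    have h4 : ((w • S0 : Sylow p G) : Subgroup G) = MulAut.conj w • (S0 : Subgroup G) := rfl
    rw [← hw, h4, Subgroup.mem_pointwise_smul_iff_inv_smul_mem]
    simp [MulAut.smul_def]
  have hS' : ∀ y : G, y ∈ (S0 : Subgroup G) ↔ w * y * w⁻¹ ∈ (S : Subgroup G) := by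
    intro y
    rw [hS]
    have : w⁻¹ * (w * y * w⁻¹) * w = y := by group
    rw [this]
  apply simple_of_selfnorm p S
  · intro h
    apply hne
    rw [eq_bot_iff]
    intro y hy
    have := (hS' y).mp hy
    rw [h, Subgroup.mem_bot] at this
    rw [Subgroup.mem_bot]
    have h2 : y = w⁻¹ * (w * y * w⁻¹) * w := by group
    rw [h2, this]
    group
  · intro g hg
    rw [hS]
    apply hnorm
    intro y hy
    rw [hS']
    have h1 := hg _ ((hS' y).mp hy)
    have h2 : w * (w⁻¹ * g * w * y * (w⁻¹ * g * w)⁻¹) * w⁻¹ = g * (w * y * w⁻¹) * g⁻¹ := by group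
    rw [h2]
    exact h1
  · intro T hTS hT0 hcl
    have h1 : (S0 : Subgroup G) ≤ T.map (MulAut.conj w⁻¹).toMonoidHom := by
      apply hsc
      · rintro _ ⟨t, ht, rfl⟩
        have := (hS t).mp (hTS ht)
        simpa using this
      · intro h
        apply hT0
        exact (Subgroup.map_eq_bot_iff_of_injective T (MulAut.conj w⁻¹).injective).mp h
      · rintro _ ⟨t, ht, rfl⟩ g hg
        refine ⟨(w * g * w⁻¹) * t * (w * g * w⁻¹)⁻¹, ?_, ?_⟩
        · apply hcl t ht
          have := (hS' _).mp hg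
          have h2 : w * (g * (MulAut.conj w⁻¹).toMonoidHom t * g⁻¹) * w⁻¹ =
              w * g * w⁻¹ * t * (w * g * w⁻¹)⁻¹ := by
            simp
            group
          rw [← h2]
          exact this
        · simp
          group
    intro x hx
    have h2 := h1 ((hS x).mp hx)
    obtain ⟨t, ht, hte⟩ := h2
    have h3 : x = t := by
      have : w⁻¹ * t * w = w⁻¹ * x * w := by simpa using hte
      have h4 := mul_left_cancel (mul_right_cancel this)
      exact h4.symm
    rw [h3]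
    exact ht

section PartB

variable {F : Type*} [Field F] [Fintype F]

omit [Fintype F] in
theorem proj_surjective : Function.Surjective (proj : Sp4 F → Cfsg.PSp 2 F) :=
  QuotientGroup.mk'_surjective _

omit [Fintype F] in
theorem proj_ker : (proj : Sp4 F →* Cfsg.PSp 2 F).ker = Subgroup.center (Sp4 F) :=
  QuotientGroup.ker_mk' _

theorem center_le_S4 (L : Leaf F) (Q : Sylow 2 (SL2 F)) :
    Subgroup.center (Sp4 F) ≤ S4 (Q : Subgroup (SL2 F)) := by
  intro z hz
  rcases Cfsg.Agent.S0246.center_cases (by norm_num) z hz with h | h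
  · rw [h]; exact Subgroup.one_mem _
  · rw [h, ← L.blk_neg_one, L.mem_S4_iff]
    exact ⟨-1, L.neg_one_mem Q, -1, L.neg_one_mem Q, Or.inl rfl⟩

/-- **S5320 for `q ≡ ±1 (mod 8)`**, from the leaf facts and the two assembly pieces -/
theorem partB (L : Leaf F)
    (hHS : ∀ (Q : Sylow 2 (SL2 F)) (T : Subgroup (Sp4 F)), T ≤ S4 (Q : Subgroup (SL2 F)) →
      Subgroup.center (Sp4 F) ≤ T → (∃ x ∈ T, x ∉ Subgroup.center (Sp4 F)) →
      (∀ x ∈ T, ∀ g : Sp4 F, g * x * g⁻¹ ∈ S4 (Q : Subgroup (SL2 F)) → g * x * g⁻¹ ∈ T) →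
      S4 (Q : Subgroup (SL2 F)) ≤ T)
    (hNS : ∀ (Q : Sylow 2 (SL2 F)) (g : Sp4 F),
      (∀ x ∈ S4 (Q : Subgroup (SL2 F)), g * x * g⁻¹ ∈ S4 (Q : Subgroup (SL2 F))) →
      g ∈ S4 (Q : Subgroup (SL2 F)))
    (S : Sylow 2 (Cfsg.PSp 2 F)) :
    (groupFusionSystem (S : Subgroup (Cfsg.PSp 2 F))).IsSimple 2 := by
  obtain ⟨Q⟩ : Nonempty (Sylow 2 (SL2 F)) := inferInstance
  have hZ := center_le_S4 L Q
  let P : Sylow 2 (Sp4 F) := Sylow.ofCard (S4 (Q : Subgroup (SL2 F))) (L.card_S4 Q)
  have hP : (P : Subgroup (Sp4 F)) = S4 (Q : Subgroup (SL2 F)) := rfl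
  let S0 : Sylow 2 (Cfsg.PSp 2 F) := Sylow.mapSurjective proj_surjective P
  have hS0 : (S0 : Subgroup (Cfsg.PSp 2 F)) = (S4 (Q : Subgroup (SL2 F))).map proj := by
    rw [Sylow.coe_mapSurjective, hP]
  -- membership in `S0` can be tested on lifts
  have hmem : ∀ x : Sp4 F, proj x ∈ (S0 : Subgroup (Cfsg.PSp 2 F)) ↔
      x ∈ S4 (Q : Subgroup (SL2 F)) := by
    intro x
    rw [hS0]
    constructor
    · rintro ⟨s, hs, hsx⟩
      have h1 : s⁻¹ * x ∈ (proj : Sp4 F →* Cfsg.PSp 2 F).ker := by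
        rw [MonoidHom.mem_ker, map_mul, map_inv, hsx, inv_mul_cancel]
      rw [proj_ker] at h1
      have h2 : x = s * (s⁻¹ * x) := by group
      rw [h2]
      exact Subgroup.mul_mem _ hs (hZ h1)
    · intro hx
      exact ⟨x, hx, rfl⟩
  apply simple_of_selfnorm_conj 2 S0 S
  · -- `S0 ≠ ⊥`
    intro h
    have h1 : proj (zt : Sp4 F) ∈ (S0 : Subgroup (Cfsg.PSp 2 F)) := by
      rw [hmem]
      unfold zt
      rw [L.mem_S4_iff]
      exact ⟨-1, L.neg_one_mem Q, 1, Subgroup.one_mem _, Or.inl rfl⟩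
    rw [h, Subgroup.mem_bot] at h1
    have h2 : (zt : Sp4 F) ∈ (proj : Sp4 F →* Cfsg.PSp 2 F).ker := h1
    rw [proj_ker] at h2
    rcases Cfsg.Agent.S0246.center_cases (by norm_num) _ h2 with h3 | h3
    · unfold zt at h3
      have h4 : ((-1 : SL2 F), (1 : SL2 F)) = (1, 1) := L.blk_injective (by rw [h3]; exact (map_one blk).symm)
      exact L.neg_one_ne_one (congrArg Prod.fst h4)
    · unfold zt at h3
      rw [← L.blk_neg_one] at h3
      have h4 := L.blk_injective h3
      exact L.neg_one_ne_one (congrArg Prod.snd h4).symm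
  · -- self-normalizing
    intro g hg
    obtain ⟨g', rfl⟩ := proj_surjective g
    rw [hmem]
    apply hNS Q
    intro x hx
    rw [← hmem, map_mul, map_mul, map_inv]
    exact hg _ ((hmem x).mpr hx)
  · -- no strongly closed subgroups
    intro T hTS hT0 hcl
    have h1 : S4 (Q : Subgroup (SL2 F)) ≤ T.comap proj := by
      apply hHS Q
      · intro x hx
        exact (hmem x).mp (hTS hx)
      · intro z hz
        rw [← proj_ker] at hz
        show proj z ∈ T
        rw [MonoidHom.mem_ker.mp hz]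
        exact Subgroup.one_mem _
      · obtain ⟨⟨t, htT⟩, ht1⟩ := (Subgroup.ne_bot_iff_exists_ne_one).mp hT0
        obtain ⟨t', rfl⟩ := proj_surjective t
        refine ⟨t', htT, ?_⟩
        intro hc
        apply ht1
        apply Subtype.ext
        show proj t' = 1
        rw [← proj_ker] at hc
        exact MonoidHom.mem_ker.mp hc
      · intro x hx g hg
        show proj (g * x * g⁻¹) ∈ T
        rw [map_mul, map_mul, map_inv]
        apply hcl _ hx
        rw [← map_inv, ← map_mul, ← map_mul, hmem]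
        exact hg
    intro y hy
    obtain ⟨y', rfl⟩ := proj_surjective y
    exact h1 ((hmem y').mp hy)

end PartB

end Cfsg.Agent.Lib.Helper16.PS4
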